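import Mathlib

/-! The Heisenberg group of order `p³` in coordinates, split over its last coordinate. -/

namespace Cfsg.Agent.GenA.FullyRamified

/-- Triples `(a, b, c)` over `ZMod p` with the upper unitriangular multiplication. -/
@[ext] structure Heis (p : ℕ) where
  a : ZMod p
  b : ZMod p
  c : ZMod p

namespace Heis

open scoped commutatorElement

variable {p : ℕ}

instance : Mul (Heis p) where
  mul x y := ⟨x.a + y.a + x.c * y.b, x.b + y.b, x.c + y.c⟩

instance : One (Heis p) where one := ⟨0, 0, 0⟩

instance : Inv (Heis p) where inv x := ⟨-x.a + x.c * x.b, -x.b, -x.c⟩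

@[simp] theorem mul_a (x y : Heis p) : (x * y).a = x.a + y.a + x.c * y.b := rfl
@[simp] theorem mul_b (x y : Heis p) : (x * y).b = x.b + y.b := rfl
@[simp] theorem mul_c (x y : Heis p) : (x * y).c = x.c + y.c := rfl
@[simp] theorem one_a : (1 : Heis p).a = 0 := rfl
@[simp] theorem one_b : (1 : Heis p).b = 0 := rfl
@[simp] theorem one_c : (1 : Heis p).c = 0 := rfl
@[simp] theorem inv_a (x : Heis p) : (x⁻¹).a = -x.a + x.c * x.b := rfl
@[simp] theorem inv_b (x : Heis p) : (x⁻¹).b = -x.b := rfl
@[simp] theorem inv_c (x : Heis p) : (x⁻¹).c = -x.c := rfl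

instance : Group (Heis p) where
  mul_assoc x y z := by ext <;> simp <;> ring
  one_mul x := by ext <;> simp
  mul_one x := by ext <;> simp
  inv_mul_cancel x := by ext <;> simp

def equivTriple : Heis p ≃ ZMod p × ZMod p × ZMod p where
  toFun x := (x.a, x.b, x.c)
  invFun t := ⟨t.1, t.2.1, t.2.2⟩
  left_inv _ := rfl
  right_inv _ := rfl

instance [NeZero p] : Finite (Heis p) := Finite.of_equiv _ equivTriple.symm

theorem card : Nat.card (Heis p) = p ^ 3 := by
  rw [Nat.card_congr equivTriple, Nat.card_prod, Nat.card_prod, Nat.card_zmod]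
  ring

/-- Projection on the last coordinate. -/
def proj : Heis p →* Multiplicative (ZMod p) where
  toFun x := Multiplicative.ofAdd x.c
  map_one' := rfl
  map_mul' _ _ := rfl

/-- The section of `proj`. -/
def sect : Multiplicative (ZMod p) →* Heis p where
  toFun t := ⟨0, 0, Multiplicative.toAdd t⟩
  map_one' := rfl
  map_mul' s t := by ext <;> simp

theorem proj_sect (t : Multiplicative (ZMod p)) : proj (sect t) = t := rfl

theorem commutator_eq (x y : Heis p) : ⁅x, y⁆ = ⟨x.c * y.b - y.c * x.b, 0, 0⟩ := by
  rw [commutatorElement_def]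
  ext <;> simp <;> ring

end Heis

end Cfsg.Agent.GenA.FullyRamified
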