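import Mathlib
import Cfsg.Agent.GenA.FullyRamified.Heis

/-!
# A finite group with cyclic squarefree centre, every outside element having a nontrivial
central commutator, and containing a given solvable group modulo the centre
-/

namespace Cfsg.Agent.GenA.FullyRamified

open Subgroup
open scoped commutatorElement

universe u

/-- Every non-central element has a non-trivial central commutator. -/
def CentralPairing (H : Type u) [Group H] : Prop :=
  ∀ h : H, h ∉ center H → ∃ g : H, ⁅h, g⁆ ∈ center H ∧ ⁅h, g⁆ ≠ 1

/-- The property of `G` which is carried through the induction. -/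
def Embeds (G : Type u) [Group G] : Prop :=
  ∃ (H : Type u) (_ : Group H) (_ : Finite H),
    IsCyclic (center H) ∧ Squarefree (Nat.card (center H)) ∧ CentralPairing H ∧
    (∃ f : G →* H ⧸ center H, Function.Injective f) ∧
    ∀ q : ℕ, q.Prime →
      (q ∣ Nat.card H → q ∣ Nat.card G) ∧ (q ∣ Nat.card G → q ∣ Nat.card (center H))

theorem embeds_of_subsingleton (G : Type u) [Group G] [Subsingleton G] : Embeds G := by
  refine ⟨G, inferInstance, inferInstance, inferInstance, ?_, ?_, ⟨1, ?_⟩, ?_⟩
  · rw [Nat.card_unique]; exact squarefree_one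
  · intro h hh; exact absurd (Subsingleton.elim h 1 ▸ one_mem _) hh
  · intro a b _; exact Subsingleton.elim a b
  · intro q hq
    simp [Nat.card_unique]

theorem exists_cyclic_embedding (Z : Type*) [Group Z] [Finite Z] [IsCyclic Z] :
    ∃ lam : Z →* ℂˣ, Function.Injective lam ∧ ∀ z, lam z ^ Nat.card Z = 1 := by
  haveI : NeZero (Nat.card Z) := ⟨Nat.card_pos.ne'⟩
  let e : Z ≃* rootsOfUnity (Nat.card Z) ℂ := mulEquivOfCyclicCardEq
    (Complex.card_rootsOfUnity (Nat.card Z)).symm
  exact ⟨(rootsOfUnity (Nat.card Z) ℂ).subtype.comp e.toMonoidHom,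
    Subtype.val_injective.comp e.injective, fun z => (mem_rootsOfUnity _ _).1 (e z).2⟩

variable (H : Type u) [Group H] (p : ℕ)

/-- The shift action of the Heisenberg group on the base group. -/
def shift : Heis p →* MulAut (Multiplicative (ZMod p) → H) where
  toFun e :=
    { toFun := fun f x => f ((Heis.proj e)⁻¹ * x)
      invFun := fun f x => f (Heis.proj e * x)
      left_inv := fun f => funext fun x => by simp
      right_inv := fun f => funext fun x => by simp
      map_mul' := fun _ _ => rfl }
  map_one' := by ext f x; simp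
  map_mul' e e' := by ext f x; simp [mul_assoc]

@[simp] theorem shift_apply (e : Heis p) (f : Multiplicative (ZMod p) → H)
    (x : Multiplicative (ZMod p)) : shift H p e f x = f ((Heis.proj e)⁻¹ * x) := rfl

theorem shift_eq_one {e : Heis p} (he : e.c = 0) : shift H p e = 1 := by
  have h1 : Heis.proj e = 1 := by
    show Multiplicative.ofAdd e.c = 1
    rw [he, ofAdd_zero]
  ext f x
  simp [h1]

/-- The covering group. -/
abbrev Cover : Type u := (Multiplicative (ZMod p) → H) ⋊[shift H p] Heis p

/-- The part of the cover which becomes central. -/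
def baseCentre : Subgroup (Cover H p) where
  carrier := {k | (∀ x, k.left x ∈ center H) ∧ k.right.b = 0 ∧ k.right.c = 0}
  one_mem' := ⟨fun x => by simp [SemidirectProduct.one_left], by simp, by simp⟩
  mul_mem' := by
    rintro k l ⟨h1, h2, h3⟩ ⟨h1', h2', h3'⟩
    refine ⟨fun x => ?_, by simp [h2, h2'], by simp [h3, h3']⟩
    simp only [SemidirectProduct.mul_left, shift_eq_one H p h3, MulAut.one_apply, Pi.mul_apply]
    exact mul_mem (h1 x) (h1' x)
  inv_mem' := by
    rintro k ⟨h1, h2, h3⟩
    refine ⟨fun x => ?_, by simp [h2], by simp [h3]⟩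
    simp only [SemidirectProduct.inv_left]
    rw [shift_eq_one H p (show (k.right⁻¹).c = 0 by simp [h3]), MulAut.one_apply, Pi.inv_apply]
    exact inv_mem (h1 x)

variable {H p}

theorem mem_baseCentre {k : Cover H p} :
    k ∈ baseCentre H p ↔ (∀ x, k.left x ∈ center H) ∧ k.right.b = 0 ∧ k.right.c = 0 :=
  Iff.rfl

theorem conj_baseCentre {a : Cover H p} (ha : a ∈ baseCentre H p) (k : Cover H p) :
    (∀ x, (k * a * k⁻¹).left x = a.left ((Heis.proj k.right)⁻¹ * x)) ∧
      (k * a * k⁻¹).right = a.right := by
  obtain ⟨h1, h2, h3⟩ := ha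
  have h0 : Heis.proj a.right = 1 := by
    show Multiplicative.ofAdd a.right.c = 1
    rw [h3, ofAdd_zero]
  refine ⟨fun x => ?_, ?_⟩
  · simp only [SemidirectProduct.mul_left, SemidirectProduct.inv_left, SemidirectProduct.mul_right,
      Pi.mul_apply, shift_apply, Pi.inv_apply, map_mul (Heis.proj (p := p)), map_inv (Heis.proj (p := p)), h0, mul_one,
      inv_inv, mul_inv_cancel_left]
    rw [mem_center_iff.1 (h1 _), mul_assoc, mul_inv_cancel, mul_one]
  · ext <;> simp [h2, h3] <;> ring

instance : (baseCentre H p).Normal := ⟨by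
  intro a ha k
  obtain ⟨hl, hr⟩ := conj_baseCentre ha k
  exact ⟨fun x => by rw [hl]; exact ha.1 _, by rw [hr]; exact ha.2.1, by rw [hr]; exact ha.2.2⟩⟩

variable [NeZero p]

/-- The character of the part which becomes central. -/
noncomputable def centreChar (lam : center H →* ℂˣ) (mu : Multiplicative (ZMod p) →* ℂˣ) :
    baseCentre H p →* ℂˣ where
  toFun k := (∏ x, lam ⟨k.1.left x, k.2.1 x⟩) * mu (Multiplicative.ofAdd k.1.right.a)
  map_one' := by
    rw [Finset.prod_eq_one]
    · simp
    · intro x _
      convert map_one lam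
      rfl
  map_mul' k l := by
    have h3 : shift H p k.1.right = 1 := shift_eq_one H p k.2.2.2
    simp only [Subgroup.coe_mul, SemidirectProduct.mul_left, SemidirectProduct.mul_right,
      Heis.mul_a, k.2.2.2, zero_mul, add_zero, ofAdd_add, map_mul]
    rw [mul_mul_mul_comm, ← Finset.prod_mul_distrib]
    congr 1
    refine Finset.prod_congr rfl fun x _ => ?_
    rw [← map_mul]
    congr 1
    apply Subtype.ext
    simp [h3]

theorem centreChar_apply (lam : center H →* ℂˣ) (mu : Multiplicative (ZMod p) →* ℂˣ)
    (k : baseCentre H p) :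
    centreChar lam mu k =
      (∏ x, lam ⟨k.1.left x, k.2.1 x⟩) * mu (Multiplicative.ofAdd k.1.right.a) := rfl

theorem centreChar_conj (lam : center H →* ℂˣ) (mu : Multiplicative (ZMod p) →* ℂˣ)
    (a b : baseCentre H p) (k : Cover H p) (h : (b : Cover H p) = k * a * k⁻¹) :
    centreChar lam mu b = centreChar lam mu a := by
  obtain ⟨hl, hr⟩ := conj_baseCentre a.2 k
  rw [centreChar_apply, centreChar_apply]
  congr 1
  · refine Fintype.prod_equiv (Equiv.mulLeft (Heis.proj k.right)⁻¹) _ _ fun x => ?_
    congr 1
    apply Subtype.ext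
    show b.1.left x = a.1.left ((Heis.proj k.right)⁻¹ * x)
    rw [h, hl]
  · rw [h, hr]

end Cfsg.Agent.GenA.FullyRamified
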