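import Mathlib
import Cfsg.Agent.Lib.Characters.Induction
import Cfsg.Agent.Lib.Characters.Schur
import Cfsg.Agent.Lib.Characters.Kernel
import Cfsg.Agent.GenA.FullyRamified.Construction
import Cfsg.Prelude.Def_Blocks

/-!
# A faithful fully ramified character
-/

namespace Cfsg.Agent.GenA.FullyRamified

open Subgroup Module Cfsg.Agent.Characters
open scoped commutatorElement ComplexConjugate

universe u

theorem exists_fully_ramified {H : Type u} [Group H] [Finite H] [IsCyclic (center H)]
    (hpair : CentralPairing H) :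
    ∃ χ : Cfsg.IrrCharacter H, (∀ h : H, (χ : H → ℂ) h = (χ : H → ℂ) 1 → h = 1) ∧
      (Cfsg.charDegree (χ : H → ℂ)) ^ 2 = (center H).index := by
  classical
  haveI := Fintype.ofFinite H
  haveI := Fintype.ofFinite (Cfsg.IrrCharacter H)
  obtain ⟨lam, hlam, -⟩ := exists_cyclic_embedding (center H)
  -- an irreducible character not orthogonal to `lam` on the centre
  have hex : ∃ χ : Cfsg.IrrCharacter H,
      ∑ z : center H, (χ : H → ℂ) z * conj (lam z : ℂ) ≠ 0 := by
    by_contra hcon
    push Not at hcon
    have h0 : ∑ z : center H,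
        (fun g : H => if g = 1 then (Nat.card H : ℂ) else 0) z * conj (lam z : ℂ) = 0 := by
      rw [regular_eq_sum (G := H)]
      simp only [Finset.sum_apply, Pi.smul_apply, smul_eq_mul, Finset.sum_mul]
      rw [Finset.sum_comm]
      refine Finset.sum_eq_zero fun χ _ => ?_
      simp_rw [mul_assoc]
      rw [← Finset.mul_sum, hcon χ, mul_zero]
    rw [Finset.sum_eq_single 1] at h0
    · simp at h0
    · intro z _ hz
      simp [show (z : H) ≠ 1 from fun h => hz (Subtype.ext h)]
    · simp
  obtain ⟨χ, hχ⟩ := hex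
  obtain ⟨d, ρ, hρ, hρχ⟩ := χ.2
  set N := finrank ℂ (Fin d → ℂ) with hN
  have hN0 : 0 < N := finrank_pos_of_isIrreducible ρ
  have hNC : (N : ℂ) ≠ 0 := Nat.cast_ne_zero.2 hN0.ne'
  have hsc : ∀ z : center H, ∃ c : ℂ, ρ (z : H) = c • LinearMap.id := fun z =>
    schur_scalar ρ (ρ (z : H)) fun g v => by
      rw [← Module.End.mul_apply, ← Module.End.mul_apply, ← map_mul, ← map_mul,
        mem_center_iff.1 z.2 g]
  choose c hc using hsc
  have hmul : ∀ (z : center H) (h : H),
      ρ.character ((z : H) * h) = c z * ρ.character h := fun z h => by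
    simp only [Representation.character, map_mul, hc]
    rw [Module.End.mul_eq_comp, LinearMap.smul_comp, LinearMap.id_comp, map_smul, smul_eq_mul]
  have hz : ∀ z : center H, ρ.character z = c z * N := fun z => by
    have := hmul z 1
    rwa [mul_one, ρ.char_one] at this
  have hone : c 1 = 1 := by
    have h := hz 1
    rw [OneMemClass.coe_one, ρ.char_one] at h
    exact (mul_right_cancel₀ hNC ((one_mul (N : ℂ)).trans h)).symm
  have hcmul : ∀ z w : center H, c (z * w) = c z * c w := fun z w => by
    apply mul_right_cancel₀ hNC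
    rw [← hz, Subgroup.coe_mul, hmul, hz, mul_assoc]
  -- `c = lam`
  have hclam : ∀ w, c w = (lam w : ℂ) := by
    intro w
    set S := ∑ z : center H, c z * conj (lam z : ℂ) with hS
    have hS0 : S ≠ 0 := by
      intro h
      apply hχ
      rw [← hρχ]
      simp_rw [hz, mul_right_comm]
      rw [← Finset.sum_mul, ← hS, h, zero_mul]
    have h1 : c w * conj (lam w : ℂ) * S = S := by
      rw [hS, Finset.mul_sum]
      refine Fintype.sum_equiv (Equiv.mulLeft w) _ _ fun z => ?_
      simp only [Equiv.coe_mulLeft, hcmul, map_mul, Units.val_mul]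
      ring
    have h2 : c w * conj (lam w : ℂ) = 1 := mul_right_cancel₀ hS0 (by rw [h1, one_mul])
    have h3 : conj (lam w : ℂ) * (lam w : ℂ) = 1 := by
      rw [Complex.conj_mul', linear_norm_eq_one]; simp
    calc c w = c w * (conj (lam w : ℂ) * (lam w : ℂ)) := by rw [h3, mul_one]
      _ = lam w := by rw [← mul_assoc, h2, one_mul]
  -- vanishing off the centre
  have hvan : ∀ h : H, h ∉ center H → ρ.character h = 0 := by
    intro h hh
    obtain ⟨g, hg, hg1⟩ := hpair h hh
    have hcomm : h * g = ⁅h, g⁆ * g * h := by rw [commutatorElement_def]; group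
    have key : ρ.character h = c ⟨_, hg⟩ * ρ.character h := by
      have e : g⁻¹ * h * g = g⁻¹ * ⁅h, g⁆ * g * h := by
        rw [mul_assoc, hcomm]; group
      have e2 : g⁻¹ * ⁅h, g⁆ * g = ⁅h, g⁆ := by
        rw [mul_assoc, ← mem_center_iff.1 hg g, inv_mul_cancel_left]
      rw [← hmul]
      calc ρ.character h = ρ.character (g⁻¹ * h * g⁻¹⁻¹) := (ρ.char_conj h g⁻¹).symm
        _ = _ := by rw [inv_inv, e, e2]
    have hc1 : c ⟨_, hg⟩ ≠ 1 := by
      rw [hclam]
      intro h'
      exact hg1 (congrArg Subtype.val (hlam ((Units.ext h').trans (map_one lam).symm)))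
    by_contra h0
    exact hc1 ((mul_eq_right₀ h0).1 key.symm)
  refine ⟨χ, ?_, ?_⟩
  · intro h hh
    rw [← hρχ, ρ.char_one] at hh
    by_cases hZ : h ∈ center H
    · have := hz ⟨h, hZ⟩
      rw [hh, hclam] at this
      have h1 : (lam ⟨h, hZ⟩ : ℂ) = 1 := (mul_eq_right₀ hNC).1 this.symm
      exact congrArg Subtype.val (hlam ((Units.ext h1).trans (map_one lam).symm))
    · exact absurd ((hvan h hZ).symm.trans hh).symm hNC
  · have hdeg : Cfsg.charDegree (χ : H → ℂ) = N := by
      rw [Cfsg.charDegree, ← hρχ, ρ.char_one]; simp [hN]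
    rw [hdeg]
    have h1 := classInner_irr χ χ
    rw [if_pos rfl, classInner_def, ← hρχ] at h1
    have h2 : ∑ g : H, ρ.character g * conj (ρ.character g)
        = (Nat.card (center H) : ℂ) * (N : ℂ) ^ 2 := by
      rw [← Fintype.sum_subtype_add_sum_subtype (fun g => g ∈ center H)]
      rw [Fintype.sum_eq_zero (fun g : {g // g ∉ center H} => _) (fun g => by
        rw [hvan g g.2, zero_mul]), add_zero]
      rw [Finset.sum_congr rfl (g := fun _ => (N : ℂ) ^ 2) (fun z _ => ?_)]
      · simp [Nat.card_eq_fintype_card]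
      · show ρ.character ((z : center H) : H) * conj (ρ.character ((z : center H) : H)) = _
        rw [hz, hclam, map_mul, map_natCast, mul_mul_mul_comm, Complex.mul_conj',
          linear_norm_eq_one]
        push_cast
        ring
    rw [h2] at h1
    have hZC : (Nat.card (center H) : ℂ) ≠ 0 := Nat.cast_ne_zero.2 Nat.card_pos.ne'
    have hI : ((center H).index : ℂ) ≠ 0 := Nat.cast_ne_zero.2 index_ne_zero_of_finite
    have h4 : (Nat.card H : ℂ) = (Nat.card (center H) : ℂ) * (center H).index := by
      rw [← Nat.cast_mul, card_mul_index]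
    rw [h4] at h1
    field_simp at h1
    exact_mod_cast h1

end Cfsg.Agent.GenA.FullyRamified
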