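import Mathlib
import Cfsg.Agent.GenA.FullyRamified.Construction

/-!
# The inductive step: an extension by a cyclic group of prime order
-/

namespace Cfsg.Agent.GenA.FullyRamified

open Subgroup
open scoped commutatorElement

universe u

variable {H : Type u} [Group H] {p : ℕ}

theorem commutator_inr_proj_one (k : Cover H p) {h : Heis p} (hh : h.c = 0) :
    ⁅k, (SemidirectProduct.inr h : Cover H p)⁆ = SemidirectProduct.inr ⁅k.right, h⁆ := by
  have h0 : Heis.proj h = 1 := by
    show Multiplicative.ofAdd h.c = 1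
    rw [hh, ofAdd_zero]
  rw [commutatorElement_def, commutatorElement_def]
  refine SemidirectProduct.ext (funext fun x => ?_) ?_
  · simp only [SemidirectProduct.mul_left, SemidirectProduct.inv_left, SemidirectProduct.mul_right,
      SemidirectProduct.left_inr, SemidirectProduct.right_inr, SemidirectProduct.inv_right,
      Pi.mul_apply, shift_apply, Pi.inv_apply, Pi.one_apply, map_mul (Heis.proj (p := p)),
      map_inv (Heis.proj (p := p)), h0, mul_one, inv_one, inv_inv, one_mul, mul_inv_cancel_left,
      mul_inv_cancel]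
  · simp

theorem commutator_inl_single (k : Cover H p) (hk : k.right.c = 0)
    (u : Multiplicative (ZMod p) → H) :
    ⁅k, (SemidirectProduct.inl u : Cover H p)⁆ = SemidirectProduct.inl ⁅k.left, u⁆ := by
  have h0 : Heis.proj k.right = 1 := by
    show Multiplicative.ofAdd k.right.c = 1
    rw [hk, ofAdd_zero]
  rw [commutatorElement_def, commutatorElement_def]
  refine SemidirectProduct.ext (funext fun x => ?_) ?_
  · simp only [SemidirectProduct.mul_left, SemidirectProduct.inv_left, SemidirectProduct.mul_right,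
      SemidirectProduct.left_inl, SemidirectProduct.right_inl, SemidirectProduct.inv_right,
      Pi.mul_apply, shift_apply, Pi.inv_apply, map_mul (Heis.proj (p := p)), map_one,
      map_inv (Heis.proj (p := p)), MulAut.one_apply, h0, mul_one, inv_one, inv_inv, one_mul]
  · simp

theorem card_cover [Finite H] [NeZero p] :
    Nat.card (Cover H p) = Nat.card H ^ p * p ^ 3 := by
  rw [Nat.card_congr SemidirectProduct.equivProd, Nat.card_prod, Nat.card_fun, Heis.card,
    Nat.card_congr (Multiplicative.toAdd (α := ZMod p)), Nat.card_zmod]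

instance [Finite H] [NeZero p] : Finite (Cover H p) :=
  Finite.of_equiv _ SemidirectProduct.equivProd.symm

theorem squarefree_lcm {a b : ℕ} (ha : Squarefree a) (hb : b.Prime) :
    Squarefree (Nat.lcm a b) := by
  by_cases h : b ∣ a
  · rw [Nat.lcm_eq_left h]; exact ha
  · have hc : a.Coprime b := (hb.coprime_iff_not_dvd.2 h).symm
    rw [hc.lcm_eq_mul, Nat.squarefree_mul hc]
    exact ⟨ha, hb.squarefree⟩

theorem embeds_step {G : Type u} [Group G] [Finite G] {p : ℕ} [hp : Fact p.Prime]
    (ψ : G →* Multiplicative (ZMod p)) (hψ : Function.Surjective ψ) (hN : Embeds ψ.ker) :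
    Embeds G := by
  classical
  obtain ⟨H, _, _, hcyc, hsq, hpair, ⟨j, hj⟩, hpr⟩ := hN
  have hcardQ : Nat.card (Multiplicative (ZMod p)) = p :=
    (Nat.card_congr Multiplicative.toAdd).trans (Nat.card_zmod p)
  have hcardG : Nat.card G = Nat.card ψ.ker * p := by
    rw [← Subgroup.card_mul_index ψ.ker, Subgroup.index_ker, MonoidHom.range_eq_top.2 hψ,
      Nat.card_congr Subgroup.topEquiv.toEquiv, hcardQ]
  obtain ⟨lam, hlam, hlam'⟩ := exists_cyclic_embedding (center H)
  obtain ⟨mu, hmu, hmu'⟩ := exists_cyclic_embedding (Multiplicative (ZMod p))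
  obtain ⟨Φ, hΦ⟩ : ∃ Φ : baseCentre H p →* ℂˣ, Φ = centreChar lam mu := ⟨_, rfl⟩
  set D : Subgroup (Cover H p) := Φ.ker.map (baseCentre H p).subtype with hD
  have memD : ∀ k : Cover H p, k ∈ D ↔ ∃ hk : k ∈ (baseCentre H p), Φ ⟨k, hk⟩ = 1 := by
    intro k
    constructor
    · rintro ⟨a, ha, rfl⟩; exact ⟨a.2, ha⟩
    · rintro ⟨hk, h⟩; exact ⟨⟨k, hk⟩, h, rfl⟩
  haveI : D.Normal := ⟨fun d hd k => by
    obtain ⟨hda, hd1⟩ := (memD d).1 hd
    exact (memD _).2 ⟨Subgroup.Normal.conj_mem inferInstance d hda k,
      by rw [hΦ] at hd1 ⊢; exact (centreChar_conj lam mu ⟨d, hda⟩ _ k rfl).trans hd1⟩⟩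
  have hDA : D ≤ (baseCentre H p) := fun k hk => ((memD k).1 hk).1
  set π := QuotientGroup.mk' D with hπ
  have hπs : Function.Surjective π := QuotientGroup.mk'_surjective D
  have hπ1 : ∀ k, π k = 1 ↔ k ∈ D := fun k => QuotientGroup.eq_one_iff k
  -- commutators with `(baseCentre H p)`
  have hcomm : ∀ a ∈ (baseCentre H p), ∀ k : Cover H p, ⁅k, a⁆ ∈ D := by
    intro a ha k
    have h1 : k * a * k⁻¹ ∈ (baseCentre H p) := Subgroup.Normal.conj_mem inferInstance a ha k
    refine (memD _).2 ⟨mul_mem h1 (inv_mem ha), ?_⟩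
    show Φ (⟨k * a * k⁻¹, h1⟩ * ⟨a, ha⟩⁻¹) = 1
    rw [map_mul, map_inv, hΦ, centreChar_conj lam mu ⟨a, ha⟩ ⟨_, h1⟩ k rfl, mul_inv_cancel]
  -- the separating commutators
  have hsep : ∀ k : Cover H p, k ∉ (baseCentre H p) → ∃ g, ⁅k, g⁆ ∈ (baseCentre H p) ∧ ⁅k, g⁆ ∉ D := by
    intro k hk
    by_cases hc : k.right.c = 0
    · by_cases hz : ∀ x, k.left x ∈ center H
      · have hb : k.right.b ≠ 0 := fun hb => hk ⟨hz, hb, hc⟩
        set t : Heis p := ⟨0, 0, 1⟩ with ht
        set g : Cover H p := SemidirectProduct.inr t with hg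
        have hr : ⁅k, g⁆.right = ⟨-k.right.b, 0, 0⟩ := by
          rw [show ⁅k, g⁆.right = ⁅k.right, t⁆ by simp [commutatorElement_def, hg],
            Heis.commutator_eq]
          ext <;> simp [ht, hc]
        have hl : ∀ x, ⁅k, g⁆.left x =
            k.left x * (k.left ((Multiplicative.ofAdd (1 : ZMod p))⁻¹ * x))⁻¹ := by
          intro x
          have h0 : Heis.proj k.right = 1 := by
            show Multiplicative.ofAdd k.right.c = 1
            rw [hc, ofAdd_zero]
          simp only [commutatorElement_def, hg, SemidirectProduct.mul_left,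
            SemidirectProduct.inv_left, SemidirectProduct.mul_right, SemidirectProduct.left_inr,
            SemidirectProduct.right_inr, SemidirectProduct.inv_right, Pi.mul_apply, shift_apply,
            Pi.inv_apply, Pi.one_apply, map_mul (Heis.proj (p := p)),
            map_inv (Heis.proj (p := p)), h0, mul_one, inv_one, one_mul]
          rfl
        have hmem : ⁅k, g⁆ ∈ (baseCentre H p) :=
          ⟨fun x => by rw [hl]; exact mul_mem (hz _) (inv_mem (hz _)), by rw [hr], by rw [hr]⟩
        refine ⟨g, hmem, fun hD' => ?_⟩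
        obtain ⟨_, h1⟩ := (memD _).1 hD'
        rw [hΦ, centreChar_apply] at h1
        have e1 : ∏ x, lam ⟨⁅k, g⁆.left x, hmem.1 x⟩ = 1 := by
          have e2 : ∀ x, (⟨⁅k, g⁆.left x, hmem.1 x⟩ : center H) =
              ⟨k.left x, hz x⟩ * (⟨k.left ((Multiplicative.ofAdd (1 : ZMod p))⁻¹ * x), hz _⟩)⁻¹ :=
            fun x => Subtype.ext (hl x)
          simp only [e2, map_mul, map_inv]
          rw [Finset.prod_mul_distrib, Finset.prod_inv_distrib,
            Fintype.prod_equiv (Equiv.mulLeft (Multiplicative.ofAdd (1 : ZMod p))⁻¹)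
              (fun x => lam ⟨k.left ((Multiplicative.ofAdd (1 : ZMod p))⁻¹ * x), hz _⟩)
              (fun x => lam ⟨k.left x, hz x⟩) (fun x => rfl), mul_inv_cancel]
        rw [e1, one_mul, hr] at h1
        exact hb (by simpa using hmu (h1.trans (map_one mu).symm))
      · simp only [not_forall] at hz
        obtain ⟨x, hx⟩ := hz
        obtain ⟨y, hy, hy1⟩ := hpair _ hx
        have hl : ⁅k.left, Pi.mulSingle x y⁆ =
            (Pi.mulSingle x ⁅k.left x, y⁆ : Multiplicative (ZMod p) → H) := by
          funext z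
          rcases eq_or_ne z x with rfl | hz
          · simp [commutatorElement_def]
          · simp [commutatorElement_def, hz]
        refine ⟨SemidirectProduct.inl (Pi.mulSingle x y), ?_⟩
        rw [commutator_inl_single k hc, hl]
        have hmem : (SemidirectProduct.inl (Pi.mulSingle x ⁅k.left x, y⁆) : Cover H p) ∈ (baseCentre H p) :=
          ⟨fun z => by
            rcases eq_or_ne z x with rfl | hz
            · simpa using hy
            · simp [hz], by simp, by simp⟩
        refine ⟨hmem, fun hD' => ?_⟩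
        obtain ⟨_, h1⟩ := (memD _).1 hD'
        rw [hΦ, centreChar_apply] at h1
        rw [Finset.prod_eq_single x] at h1
        · simp only [SemidirectProduct.right_inl, Heis.one_a, ofAdd_zero, map_one, mul_one] at h1
          have := congrArg Subtype.val (hlam (h1.trans (map_one lam).symm))
          simp at this
          exact hy1 this
        · intro z _ hz
          convert map_one lam
          simp [hz]
        · simp
    · set t : Heis p := ⟨0, 1, 0⟩ with ht
      refine ⟨SemidirectProduct.inr t, ?_⟩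
      rw [commutator_inr_proj_one k (show t.c = 0 from rfl)]
      have hr : ⁅k.right, t⁆ = ⟨k.right.c, 0, 0⟩ := by
        rw [Heis.commutator_eq]
        ext <;> simp [ht]
      have hmem : (SemidirectProduct.inr ⁅k.right, t⁆ : Cover H p) ∈ (baseCentre H p) :=
        ⟨fun x => by rw [SemidirectProduct.left_inr, Pi.one_apply]; exact one_mem _, by simp [hr], by simp [hr]⟩
      refine ⟨hmem, fun hD' => ?_⟩
      obtain ⟨_, h1⟩ := (memD _).1 hD'
      rw [hΦ, centreChar_apply] at h1
      rw [Finset.prod_eq_one, one_mul] at h1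
      · rw [SemidirectProduct.right_inr, hr] at h1
        exact hc (by simpa using hmu (h1.trans (map_one mu).symm))
      · intro x _
        convert map_one lam
        rw [SemidirectProduct.left_inr]
        rfl
  -- the centre of the quotient
  have hcen : center (Cover H p ⧸ D) = (baseCentre H p).map π := by
    ext q
    obtain ⟨k, rfl⟩ := hπs q
    constructor
    · intro hq
      by_contra hk
      obtain ⟨g, -, h2⟩ := hsep k fun h => hk (Subgroup.mem_map_of_mem π h)
      apply h2
      rw [← hπ1, map_commutatorElement, commutatorElement_eq_one_iff_mul_comm]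
      exact (mem_center_iff.1 hq (π g)).symm
    · rintro ⟨a, ha, hak⟩
      rw [← hak, mem_center_iff]
      intro y
      obtain ⟨m, rfl⟩ := hπs y
      rw [← commutatorElement_eq_one_iff_mul_comm, ← map_commutatorElement, hπ1]
      exact hcomm a ha m
  set τ : (baseCentre H p) →* Cover H p ⧸ D := π.comp (baseCentre H p).subtype with hτ
  have hτker : τ.ker = Φ.ker := by
    ext a
    rw [MonoidHom.mem_ker, hτ, MonoidHom.comp_apply, hπ1, memD]
    exact ⟨fun ⟨_, h⟩ => h, fun h => ⟨a.2, h⟩⟩
  have hτrange : τ.range = center (Cover H p ⧸ D) := by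
    rw [hcen, hτ, MonoidHom.range_comp, Subgroup.range_subtype]
  let eZ : center (Cover H p ⧸ D) ≃* Φ.range :=
    ((MulEquiv.subgroupCongr hτrange.symm).trans
      (QuotientGroup.quotientKerEquivRange τ).symm).trans
      ((QuotientGroup.quotientMulEquivOfEq hτker).trans (QuotientGroup.quotientKerEquivRange Φ))
  set m := Nat.lcm (Nat.card (center H)) p with hm
  have hm0 : 0 < m := Nat.lcm_pos Nat.card_pos hp.out.pos
  have hΦroot : Φ.range ≤ rootsOfUnity m ℂ := by
    rintro y ⟨a, rfl⟩
    rw [mem_rootsOfUnity, hΦ, centreChar_apply, mul_pow, ← Finset.prod_pow]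
    obtain ⟨s, hs⟩ := Nat.dvd_lcm_left (Nat.card (center H)) p
    obtain ⟨t, ht⟩ := Nat.dvd_lcm_right (Nat.card (center H)) p
    rw [Finset.prod_eq_one, one_mul]
    · rw [hm, ht, pow_mul]
      conv_lhs => arg 1; arg 2; rw [← hcardQ]
      rw [hmu', one_pow]
    · intro x _
      rw [hm, hs, pow_mul, hlam', one_pow]
  haveI : NeZero m := ⟨hm0.ne'⟩
  haveI : Finite Φ.range := Finite.of_injective _ (Subgroup.inclusion_injective hΦroot)
  have hΦcard : Nat.card Φ.range ∣ m := by
    have := Subgroup.card_dvd_of_le hΦroot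
    rwa [Complex.card_rootsOfUnity] at this
  have hlamrange : lam.range ≤ Φ.range := by
    rintro y ⟨z, rfl⟩
    refine ⟨⟨SemidirectProduct.inl (Pi.mulSingle 1 (z : H)), ⟨fun x => ?_, by simp, by simp⟩⟩, ?_⟩
    · rcases eq_or_ne x 1 with rfl | hx
      · simp
      · simp [hx]
    · rw [hΦ, centreChar_apply, Finset.prod_eq_single 1]
      · simp
      · intro x _ hx
        convert map_one lam
        simp [hx]
      · simp
  have hmurange : mu.range ≤ Φ.range := by
    rintro y ⟨z, rfl⟩
    refine ⟨⟨SemidirectProduct.inr ⟨Multiplicative.toAdd z, 0, 0⟩,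
      ⟨fun x => by simp, by simp, by simp⟩⟩, ?_⟩
    rw [hΦ, centreChar_apply, Finset.prod_eq_one]
    · simp
    · intro x _
      convert map_one lam
      simp
  have hcardZ := Nat.card_congr eZ.toEquiv
  refine ⟨Cover H p ⧸ D, inferInstance, inferInstance, ?_, ?_, ?_, ?_, ?_⟩
  · exact isCyclic_of_surjective eZ.symm eZ.symm.surjective
  · rw [hcardZ]
    exact (squarefree_lcm hsq hp.out).squarefree_of_dvd hΦcard
  · intro h hh
    obtain ⟨k, rfl⟩ := hπs h
    obtain ⟨g, h1, h2⟩ := hsep k fun hk => hh (hcen ▸ Subgroup.mem_map_of_mem π hk)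
    refine ⟨π g, ?_, ?_⟩
    · rw [← map_commutatorElement, hcen]
      exact Subgroup.mem_map_of_mem π h1
    · rwa [← map_commutatorElement, Ne, hπ1]
  · -- the embedding
    set θ : Cover H p →* (Cover H p ⧸ D) ⧸ center (Cover H p ⧸ D) :=
      (QuotientGroup.mk' (center (Cover H p ⧸ D))).comp π with hθ
    have hθ1 : ∀ k, θ k = 1 ↔ k ∈ (baseCentre H p) := by
      intro k
      rw [hθ, MonoidHom.comp_apply, QuotientGroup.mk'_apply, QuotientGroup.eq_one_iff, hcen]
      constructor
      · rintro ⟨a, ha, hak⟩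
        have : a⁻¹ * k ∈ D := by rw [← hπ1, map_mul, map_inv, hak, inv_mul_cancel]
        simpa using mul_mem ha (hDA this)
      · exact fun h => Subgroup.mem_map_of_mem π h
    have hθeq : ∀ k k' : Cover H p, k.right = k'.right →
        (∀ x, QuotientGroup.mk' (center H) (k.left x) = QuotientGroup.mk' (center H) (k'.left x)) →
        θ k = θ k' := by
      intro k k' hr hl
      rw [← mul_inv_eq_one, ← map_inv, ← map_mul, hθ1]
      refine ⟨fun x => ?_, by simp [hr], by simp [hr]⟩
      rw [← QuotientGroup.eq_one_iff]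
      have : (k * k'⁻¹).left x = k.left x * (k'.left x)⁻¹ := by
        simp [SemidirectProduct.mul_left, SemidirectProduct.inv_left, hr]
      rw [this, QuotientGroup.mk_mul, QuotientGroup.mk_inv]
      rw [show (k.left x : H ⧸ center H) = (k'.left x : H ⧸ center H) from hl x, mul_inv_cancel]
    choose s hs using hψ
    have hn : ∀ g x, (s x)⁻¹ * g * s ((ψ g)⁻¹ * x) ∈ ψ.ker := by
      intro g x
      simp [MonoidHom.mem_ker, hs]
    let n : G → Multiplicative (ZMod p) → ψ.ker := fun g x => ⟨_, hn g x⟩
    choose l hl using fun g x => QuotientGroup.mk'_surjective (center H) (j (n g x))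
    let k : G → Cover H p := fun g => ⟨fun x => l g x, Heis.sect (ψ g)⟩
    refine ⟨MonoidHom.mk' (fun g => θ (k g)) fun g h => ?_, ?_⟩
    · rw [← map_mul]
      refine hθeq _ _ ?_ fun x => ?_
      · show Heis.sect (ψ (g * h)) = Heis.sect (ψ g) * Heis.sect (ψ h)
        rw [map_mul, map_mul]
      · show QuotientGroup.mk' (center H) (l (g * h) x) =
          QuotientGroup.mk' (center H) (l g x * l h ((Heis.proj (Heis.sect (ψ g)))⁻¹ * x))
        rw [Heis.proj_sect, hl, map_mul, hl, hl, ← map_mul]
        congr 1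
        apply Subtype.ext
        show (s x)⁻¹ * (g * h) * s ((ψ (g * h))⁻¹ * x) =
          (s x)⁻¹ * g * s ((ψ g)⁻¹ * x) *
            ((s ((ψ g)⁻¹ * x))⁻¹ * h * s ((ψ h)⁻¹ * ((ψ g)⁻¹ * x)))
        rw [map_mul, mul_inv_rev (ψ g) (ψ h), mul_assoc (ψ h)⁻¹]
        group
    · rw [injective_iff_map_eq_one]
      intro g hg
      obtain ⟨h1, -, h3⟩ := (hθ1 _).1 hg
      have hg1 : ψ g = 1 := by
        rw [← Heis.proj_sect (ψ g)]
        show Multiplicative.ofAdd (k g).right.c = 1
        rw [h3, ofAdd_zero]
      have h4 : QuotientGroup.mk' (center H) (l g 1) = 1 := (QuotientGroup.eq_one_iff _).2 (h1 1)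
      rw [hl] at h4
      have h5 : (s 1)⁻¹ * g * s ((ψ g)⁻¹ * 1) = 1 :=
        congrArg Subtype.val (hj (h4.trans (map_one j).symm))
      rw [hg1, inv_one, mul_one] at h5
      have h6 : (s 1)⁻¹ * g * s 1 = (s 1)⁻¹ * 1 * s 1 := by rw [h5]; simp
      exact mul_left_cancel (mul_right_cancel h6)
  · intro q hq
    haveI := Fact.mk hq
    constructor
    · intro h
      have h' : q ∣ Nat.card H ^ p * p ^ 3 := by
        rw [← card_cover]; exact h.trans (Subgroup.card_quotient_dvd_card D)
      rw [hcardG]
      rcases hq.dvd_mul.1 h' with h | h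
      · exact ((hpr q hq).1 (hq.dvd_of_dvd_pow h)).mul_right p
      · exact (hq.dvd_of_dvd_pow h).mul_left _
    · intro h
      rw [hcardG] at h
      rw [hcardZ]
      rcases hq.dvd_mul.1 h with h | h
      · refine ((hpr q hq).2 h).trans ?_
        rw [Nat.card_congr (MonoidHom.ofInjective hlam).toEquiv]
        exact Subgroup.card_dvd_of_le hlamrange
      · have h' := Subgroup.card_dvd_of_le hmurange
        rw [← Nat.card_congr (MonoidHom.ofInjective hmu).toEquiv, hcardQ] at h'
        exact h.trans h'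

end Cfsg.Agent.GenA.FullyRamified
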