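import Mathlib
import Cfsg.Agent.GenA.FullyRamified.Step

/-!
# Every finite solvable group embeds modulo the centre
-/

namespace Cfsg.Agent.GenA.FullyRamified

universe u

theorem exists_hom_zmod (G : Type u) [Group G] [Finite G] [Nontrivial G] (hs : Group.IsSolvable G) :
    ∃ (p : ℕ) (_ : Fact p.Prime) (ψ : G →* Multiplicative (ZMod p)), Function.Surjective ψ := by
  classical
  have hne : commutator G ≠ ⊤ := (Group.IsSolvable.commutator_lt_top_of_nontrivial G).ne
  obtain h | ⟨M, hM, hcM⟩ := (eq_top_or_exists_le_coatom (commutator G))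
  · exact absurd h hne
  haveI hMn : M.Normal := ⟨fun n hn g => by
    have : g * n * g⁻¹ * n⁻¹ ∈ M := hcM (Subgroup.commutator_mem_commutator (Subgroup.mem_top g)
      (Subgroup.mem_top n))
    simpa using M.mul_mem this hn⟩
  haveI : Nontrivial (G ⧸ M) := QuotientGroup.nontrivial_iff.2 hM.1
  have hp : (Nat.minFac (Nat.card (G ⧸ M))).Prime :=
    Nat.minFac_prime Finite.one_lt_card.ne'
  haveI := Fact.mk hp
  obtain ⟨x, hx⟩ := exists_prime_orderOf_dvd_card' (G := G ⧸ M) (Nat.minFac (Nat.card (G ⧸ M)))
    (Nat.minFac_dvd _)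
  have htop : Subgroup.zpowers x = ⊤ := by
    have hlt : M < (Subgroup.zpowers x).comap (QuotientGroup.mk' M) := by
      refine lt_of_le_of_ne (fun m hm => ?_) fun h => ?_
      · simp [Subgroup.mem_comap, (QuotientGroup.eq_one_iff m).2 hm]
      · obtain ⟨g, rfl⟩ := QuotientGroup.mk'_surjective M x
        have hg : g ∈ M := h.symm ▸ Subgroup.mem_zpowers (QuotientGroup.mk' M g)
        rw [show QuotientGroup.mk' M g = 1 from (QuotientGroup.eq_one_iff g).2 hg, orderOf_one] at hx
        exact hp.ne_one hx.symm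
    have := congrArg (Subgroup.map (QuotientGroup.mk' M)) (hM.2 _ hlt)
    rwa [Subgroup.map_comap_eq_self_of_surjective (QuotientGroup.mk'_surjective M),
      Subgroup.map_top_of_surjective _ (QuotientGroup.mk'_surjective M)] at this
  have hcard : Nat.card (G ⧸ M) = Nat.minFac (Nat.card (G ⧸ M)) := by
    rw [← hx, ← Nat.card_zpowers, htop, Nat.card_congr Subgroup.topEquiv.toEquiv]
  let e : G ⧸ M ≃* Multiplicative (ZMod (Nat.minFac (Nat.card (G ⧸ M)))) :=
    mulEquivOfPrimeCardEq hcard ((Nat.card_congr Multiplicative.toAdd).trans (Nat.card_zmod _))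
  exact ⟨_, inferInstance, e.toMonoidHom.comp (QuotientGroup.mk' M),
    e.surjective.comp (QuotientGroup.mk'_surjective M)⟩

theorem embeds_of_solvable :
    ∀ (n : ℕ) (G : Type u) [Group G] [Finite G], Nat.card G = n → Group.IsSolvable G →
      Embeds G := by
  intro n
  induction n using Nat.strong_induction_on with
  | _ n ih =>
    intro G _ _ hn hs
    rcases subsingleton_or_nontrivial G with h | h
    · exact embeds_of_subsingleton G
    obtain ⟨p, hp, ψ, hψ⟩ := exists_hom_zmod G hs
    refine embeds_step ψ hψ (ih _ ?_ ψ.ker rfl inferInstance)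
    subst hn
    haveI : Nontrivial (Multiplicative (ZMod p)) := inferInstance
    refine lt_of_le_of_ne (Subgroup.card_le_card_group _) fun h => ?_
    have := Subgroup.eq_top_of_card_eq _ h
    obtain ⟨y, hy⟩ := exists_ne (1 : Multiplicative (ZMod p))
    obtain ⟨g, rfl⟩ := hψ y
    exact hy (by simpa [← MonoidHom.mem_ker, this] using Subgroup.mem_top g)

end Cfsg.Agent.GenA.FullyRamified
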